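import Groth.Prelude.Def_W4c5quivmodgenus0Quiv
import Mathlib.LinearAlgebra.FiniteDimensional.Lemmas
import Mathlib.LinearAlgebra.FiniteDimensional.Basic
import Mathlib.LinearAlgebra.Dimension.Constructions
import Mathlib.Algebra.Order.BigOperators.Group.Finset
import Mathlib.Tactic.Linarith
import Mathlib.Tactic.FieldSimp
import Mathlib.Tactic.Ring
import Mathlib.Algebra.Order.Ring.Rat
import Mathlib.Data.Fintype.Pi

/-!
# Stability for the two quivers of pointed genus zero curves
-/

universe u v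

namespace Groth.Agent.L13.Quiv

open PtQuiv Finset Submodule

variable {K : Type u} [Field K]

theorem finrank_plane : Module.finrank K (Fin 2 → K) = 2 := Module.finrank_fin_fun K

theorem finrank_le_two (L : Submodule K (Fin 2 → K)) : Module.finrank K L ≤ 2 :=
  (Submodule.finrank_le L).trans finrank_plane.le

theorem eq_top_of_two {L : Submodule K (Fin 2 → K)} (h : Module.finrank K L = 2) : L = ⊤ :=
  Submodule.eq_top_of_finrank_eq (h.trans finrank_plane.symm)

theorem exists_gen {L : Submodule K (Fin 2 → K)} (h : Module.finrank K L = 1) :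
    ∃ v, v ≠ 0 ∧ L = K ∙ v := by
  have hne : L ≠ ⊥ := fun h0 => one_ne_zero (h.symm.trans (Submodule.finrank_eq_zero.mpr h0))
  obtain ⟨v, hv, hv0⟩ := L.exists_mem_ne_zero_of_ne_bot hne
  refine ⟨v, hv0, (Submodule.eq_of_le_of_finrank_eq ?_ ?_).symm⟩
  · exact (Submodule.span_singleton_le_iff_mem _ _).mpr hv
  · rw [h, finrank_span_singleton hv0]

theorem span_eq_of_mem {x y : Fin 2 → K} (hx : x ≠ 0) (h : x ∈ K ∙ y) : (K ∙ x) = K ∙ y := by
  have hy : y ≠ 0 := fun h0 => hx (by simpa [h0] using h)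
  exact Submodule.eq_of_le_of_finrank_eq ((Submodule.span_singleton_le_iff_mem _ _).mpr h)
    (by rw [finrank_span_singleton hx, finrank_span_singleton hy])

theorem mem_comm {x y : Fin 2 → K} (hx : x ≠ 0) (h : x ∈ K ∙ y) : y ∈ K ∙ x :=
  span_eq_of_mem hx h ▸ Submodule.mem_span_singleton_self y

theorem finrank_scalar (U : Submodule K K) [Decidable (U = ⊤)] :
    (Module.finrank K U : ℚ) = if U = ⊤ then 1 else 0 := by
  split_ifs with h
  · subst h
    simp
  · have : U = ⊥ := (eq_bot_or_eq_top U).resolve_right h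
    subst this
    simp

section Compare

variable {κ : Type v} [Fintype κ] [DecidableEq κ] {a b : κ} (hab : a ≠ b) {s : κ → (Fin 2 → K)}
  {θ : κ → ℚ} (h0 : ∀ i, 0 ≤ θ i) (h2 : ∑ i, θ i = 2)
  {t : {i : κ // i ≠ a ∧ i ≠ b} → (Fin 2 → K)}
  (ht : ∀ i, s i.1 = t i 0 • s a + t i 1 • s b)
  (hθ : 1 < θ a + θ b) (hθ' : θ a + θ b < 2)

/-- The weights of the quiver `P` attached to `θ`. -/
def eta (θ : κ → ℚ) (a b : κ) : Fin 2 → ℚ :=
  ![(2 - θ a - θ b)⁻¹ * (θ a - 1), (2 - θ a - θ b)⁻¹ * (θ b - 1)]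

include h2 hab in
theorem sum_rest : ∑ i : {i : κ // i ≠ a ∧ i ≠ b}, θ i.1 = 2 - θ a - θ b := by
  rw [← Finset.sum_subtype (univ.filter fun i => i ≠ a ∧ i ≠ b) (fun i => by simp) θ]
  have h := Finset.sum_filter_add_sum_filter_not univ (fun i => i ≠ a ∧ i ≠ b) θ
  have h' : univ.filter (fun i => ¬(i ≠ a ∧ i ≠ b)) = {a, b} := by
    ext i; simp only [mem_filter, mem_univ, true_and, mem_insert, Finset.mem_singleton]; tauto
  rw [h', Finset.sum_pair hab, h2] at h
  linarith

include h2 hab hθ' in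
theorem weight_zero : (∑ j, eta θ a b j) + ∑ i : {i : κ // i ≠ a ∧ i ≠ b}, (2 - θ a - θ b)⁻¹ * θ i.1 = 0 := by
  rw [← Finset.mul_sum, sum_rest hab h2, Fin.sum_univ_two]
  simp only [eta, Matrix.cons_val_zero, Matrix.cons_val_one]
  have : 2 - θ a - θ b ≠ 0 := by intro h; linarith
  field_simp
  ring

theorem pwt_mul (D : ℚ) (hD : D ≠ 0) (c : Fin 2 → ℚ) (U : Fin 2 → Submodule K K)
    (I : Finset {i : κ // i ≠ a ∧ i ≠ b}) :
    D * PWt K (fun j => D⁻¹ * c j) (fun i => D⁻¹ * θ i.1) U I =
      (∑ j, c j * (Module.finrank K (U j) : ℚ)) + ∑ i ∈ I, θ i.1 := by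
  simp only [PWt, mul_add, Finset.mul_sum, ← mul_assoc, mul_inv_cancel₀ hD, one_mul]

theorem eta_eq : eta θ a b = fun j => (2 - θ a - θ b)⁻¹ * (![θ a - 1, θ b - 1] j) := by
  funext j
  fin_cases j <;> rfl

include ht hab hθ' in
/-- A subrepresentation of `P` gives one of `Q`. -/
theorem exists_qSubrep (hli : LinearIndependent K ![s a, s b]) (U : Fin 2 → Submodule K K)
    (I : Finset {i : κ // i ≠ a ∧ i ≠ b}) (hU : PSubrep t U I) :
    ∃ (L : Submodule K (Fin 2 → K)) (J : Finset κ), QSubrep s L J ∧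
      QWt K (-1) θ L J =
        (2 - θ a - θ b) * PWt K (eta θ a b) (fun i => (2 - θ a - θ b)⁻¹ * θ i.1) U I ∧
      ((L = ⊥ ∧ J = ∅) → U = ⊥ ∧ I = ∅) ∧ ((L = ⊤ ∧ J = univ) → U = ⊤ ∧ I = univ) := by
  classical
  have hD : 2 - θ a - θ b ≠ 0 := by intro h; linarith
  rw [eta_eq, pwt_mul _ hD, Fin.sum_univ_two, finrank_scalar, finrank_scalar]
  simp only [Matrix.cons_val_zero, Matrix.cons_val_one]
  have ha0 : s a ≠ 0 := by simpa using hli.ne_zero 0
  have hb0 : s b ≠ 0 := by simpa using hli.ne_zero 1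
  let I₀ : Finset κ := I.map (Function.Embedding.subtype _)
  have hsum : ∑ i ∈ I₀, θ i = ∑ i ∈ I, θ i.1 := by simp [I₀]
  have ha : a ∉ I₀ := by simp [I₀]
  have hb : b ∉ I₀ := by simp [I₀]
  have hzero : ∀ i ∈ I, ∀ j, U j ≠ ⊤ → t i j = 0 := fun i hi j hj => by
    have := hU i hi j
    rwa [(eq_bot_or_eq_top (U j)).resolve_right hj, Submodule.mem_bot] at this
  have hI₀ : ∀ i ∈ I₀, ∃ i' ∈ I, (i' : κ) = i := by simp [I₀]
  by_cases h0' : U 0 = ⊤ <;> by_cases h1' : U 1 = ⊤
  · refine ⟨⊤, insert a (insert b I₀), fun _ _ => trivial, ?_, fun h => absurd h.1 top_ne_bot, ?_⟩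
    · simp [QWt, h0', h1', Finset.sum_insert, ha, hb, hab, hsum]
      ring
    · rintro ⟨-, h⟩
      refine ⟨funext fun j => by fin_cases j <;> simpa, Finset.eq_univ_of_forall fun i => ?_⟩
      have := Finset.eq_univ_iff_forall.mp h i.1
      simpa [i.2.1, i.2.2, I₀] using this
  · refine ⟨K ∙ s a, insert a I₀, ?_, ?_, ?_, ?_⟩
    · intro i hi
      rcases Finset.mem_insert.mp hi with rfl | hi
      · exact Submodule.mem_span_singleton_self _
      · obtain ⟨i, hiI, rfl⟩ := hI₀ i hi
        rw [ht, hzero i hiI 1 h1', zero_smul, add_zero]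
        exact Submodule.smul_mem _ _ (Submodule.mem_span_singleton_self _)
    · simp [QWt, h0', h1', Finset.sum_insert, ha, hsum, finrank_span_singleton ha0]
      ring
    · exact fun h => absurd h.2 (Finset.insert_ne_empty _ _)
    · rintro ⟨h, -⟩
      have := congr_arg (fun L : Submodule K (Fin 2 → K) => Module.finrank K L) h
      simp [finrank_span_singleton ha0] at this
  · refine ⟨K ∙ s b, insert b I₀, ?_, ?_, ?_, ?_⟩
    · intro i hi
      rcases Finset.mem_insert.mp hi with rfl | hi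
      · exact Submodule.mem_span_singleton_self _
      · obtain ⟨i, hiI, rfl⟩ := hI₀ i hi
        rw [ht, hzero i hiI 0 h0', zero_smul, zero_add]
        exact Submodule.smul_mem _ _ (Submodule.mem_span_singleton_self _)
    · simp [QWt, h0', h1', Finset.sum_insert, hb, hsum, finrank_span_singleton hb0]
      ring
    · exact fun h => absurd h.2 (Finset.insert_ne_empty _ _)
    · rintro ⟨h, -⟩
      have := congr_arg (fun L : Submodule K (Fin 2 → K) => Module.finrank K L) h
      simp [finrank_span_singleton hb0] at this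
  · refine ⟨⊥, I₀, ?_, ?_, ?_, ?_⟩
    · intro i hi
      obtain ⟨i, hiI, rfl⟩ := hI₀ i hi
      rw [ht, hzero i hiI 0 h0', hzero i hiI 1 h1']
      simp
    · simp [QWt, h0', h1', hsum]
    · rintro ⟨-, h⟩
      refine ⟨funext fun j => ?_, Finset.map_eq_empty.mp h⟩
      fin_cases j
      · exact (eq_bot_or_eq_top (U 0)).resolve_right h0'
      · exact (eq_bot_or_eq_top (U 1)).resolve_right h1'
    · exact fun h => absurd h.1 bot_ne_top

include hθ h2 in
theorem linearIndependent_of_semistable (h1 : ∀ i, θ i ≤ 1) (hs : QSemistable (-1) θ s)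
    (hab : a ≠ b) : LinearIndependent K ![s a, s b] := by
  have hza : ∀ i, 0 < θ i → s i ≠ 0 := fun i hi h => by
    have := hs.2 ⊥ {i} (fun j hj => by simp [Finset.mem_singleton.mp hj, h])
    simp [QWt] at this
    linarith
  have ha : s a ≠ 0 := hza a (by linarith [h1 b])
  rw [LinearIndependent.pair_iff' ha]
  intro c hc
  have := hs.2 (K ∙ s a) {a, b} (fun i hi => by
    rcases Finset.mem_insert.mp hi with rfl | hi
    · exact Submodule.mem_span_singleton_self _
    · rw [Finset.mem_singleton.mp hi, ← hc]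
      exact Submodule.smul_mem _ _ (Submodule.mem_span_singleton_self _))
  simp [QWt, finrank_span_singleton ha, Finset.sum_pair hab] at this
  linarith

include ht hθ hθ' h0 h2 hab in
/-- A subrepresentation of `Q` is dominated by one of `P`. -/
theorem qWt_le (hli : LinearIndependent K ![s a, s b]) (L : Submodule K (Fin 2 → K))
    (I : Finset κ) (hI : QSubrep s L I) :
    (L = ⊤) ∨ QWt K (-1) θ L I < 0 ∨
      ∃ (U : Fin 2 → Submodule K K) (J : Finset {i : κ // i ≠ a ∧ i ≠ b}), PSubrep t U J ∧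
        QWt K (-1) θ L I ≤
          (2 - θ a - θ b) * PWt K (eta θ a b) (fun i => (2 - θ a - θ b)⁻¹ * θ i.1) U J ∧
        U ≠ ⊤ ∧ (U = ⊥ → J = ∅ → L = ⊥ ∧ I = ∅) := by
  classical
  have hD : 2 - θ a - θ b ≠ 0 := by intro h; linarith
  have ha0 : s a ≠ 0 := by simpa using hli.ne_zero 0
  have hb0 : s b ≠ 0 := by simpa using hli.ne_zero 1
  let J : Finset {i : κ // i ≠ a ∧ i ≠ b} := I.subtype _
  have hJ : ∀ i, i ∈ J ↔ (i : κ) ∈ I := fun i => Finset.mem_subtype
  have hcoord : ∀ c d : K, c • s a + d • s b = 0 → c = 0 ∧ d = 0 :=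
    LinearIndependent.pair_iff.mp hli
  rcases (finrank_le_two L).eq_or_lt with h | h
  · exact Or.inl (eq_top_of_two h)
  right
  interval_cases hd : Module.finrank K L
  · have hL : L = ⊥ := Submodule.finrank_eq_zero.mp hd
    subst hL
    have haI : a ∉ I := fun h => ha0 ((Submodule.mem_bot K).mp (hI a h))
    have hbI : b ∉ I := fun h => hb0 ((Submodule.mem_bot K).mp (hI b h))
    refine Or.inr ⟨⊥, J, fun i hi j => ?_, ?_, fun h => bot_ne_top (congr_fun h 0), fun _ h => ⟨rfl, ?_⟩⟩
    · have := hcoord _ _ ((ht i).symm.trans ((Submodule.mem_bot K).mp (hI _ ((hJ i).mp hi))))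
      fin_cases j <;> simp [this]
    · rw [eta_eq, pwt_mul _ hD]
      refine le_of_eq ?_
      simp only [QWt, Pi.bot_apply, finrank_bot, Nat.cast_zero, mul_zero, Finset.sum_const_zero,
        zero_add]
      rw [Finset.sum_subtype_of_mem θ (fun i hi => ⟨fun h => haI (h ▸ hi), fun h => hbI (h ▸ hi)⟩)]
    · exact Finset.eq_empty_iff_forall_notMem.mpr fun i hi =>
        Finset.eq_empty_iff_forall_notMem.mp h ⟨i, fun h => haI (h ▸ hi), fun h => hbI (h ▸ hi)⟩
          ((hJ _).mpr hi)
  · obtain ⟨v, hv, rfl⟩ := exists_gen hd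
    have hsum : ∀ (c : κ) (o : κ), o ∉ I → (∀ i, i ≠ a ∧ i ≠ b ↔ i ≠ c ∧ i ≠ o) →
        ∑ i ∈ I, θ i ≤ θ c + ∑ i ∈ J, θ i.1 := fun c o ho hc => by
      rw [Finset.sum_subtype_eq_sum_filter, ← Finset.sum_filter_add_sum_filter_not I
        (fun i => i ≠ a ∧ i ≠ b)]
      have : ∑ i ∈ I.filter (fun i => ¬(i ≠ a ∧ i ≠ b)), θ i ≤ ∑ i ∈ ({c} : Finset κ), θ i := by
        refine Finset.sum_le_sum_of_subset_of_nonneg (fun i hi => ?_) fun i _ _ => h0 i
        rw [Finset.mem_filter, hc] at hi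
        rw [Finset.mem_singleton]
        by_contra hne
        exact hi.2 ⟨hne, fun h => ho (h ▸ hi.1)⟩
      rw [Finset.sum_singleton] at this
      linarith
    have hnotboth : s a ∈ K ∙ v → s b ∉ K ∙ v := fun h1 h2 => by
      have hb' : s b ∈ K ∙ s a := by
        rw [span_eq_of_mem ha0 h1]; exact h2
      obtain ⟨c, hc⟩ := Submodule.mem_span_singleton.mp hb'
      exact one_ne_zero (neg_eq_zero.mp (hcoord c (-1) (by rw [hc, neg_one_smul, add_neg_cancel])).2)
    by_cases hav : s a ∈ K ∙ v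
    · have hbI : b ∉ I := fun h => hnotboth hav (hI b h)
      refine Or.inr ⟨![⊤, ⊥], J, fun i hi j => ?_, ?_, fun h => bot_ne_top (congr_fun h 1),
        fun h => absurd (congr_fun h 0) top_ne_bot⟩
      · fin_cases j
        · trivial
        · show t i 1 ∈ (⊥ : Submodule K K)
          obtain ⟨c, hc⟩ := Submodule.mem_span_singleton.mp
            (span_eq_of_mem ha0 hav ▸ hI _ ((hJ i).mp hi) : s i.1 ∈ K ∙ s a)
          have := hcoord (t i 0 - c) (t i 1) (by
            rw [sub_smul, hc, ht i]; module)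
          exact this.2
      · rw [eta_eq, pwt_mul _ hD, Fin.sum_univ_two, finrank_scalar, finrank_scalar]
        have := hsum a b hbI fun i => Iff.rfl
        simp [QWt, finrank_span_singleton hv]
        linarith
    · have haI : a ∉ I := fun h => hav (hI a h)
      by_cases hbv : s b ∈ K ∙ v
      · refine Or.inr ⟨![⊥, ⊤], J, fun i hi j => ?_, ?_, fun h => bot_ne_top (congr_fun h 0),
          fun h => absurd (congr_fun h 1) top_ne_bot⟩
        · fin_cases j
          · show t i 0 ∈ (⊥ : Submodule K K)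
            obtain ⟨c, hc⟩ := Submodule.mem_span_singleton.mp
              (span_eq_of_mem hb0 hbv ▸ hI _ ((hJ i).mp hi) : s i.1 ∈ K ∙ s b)
            have := hcoord (t i 0) (t i 1 - c) (by
              rw [sub_smul, hc, ht i]; module)
            exact this.1
          · trivial
        · rw [eta_eq, pwt_mul _ hD, Fin.sum_univ_two, finrank_scalar, finrank_scalar]
          have := hsum b a haI fun i => and_comm
          simp [QWt, finrank_span_singleton hv]
          linarith
      · refine Or.inl ?_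
        have hsub : I ⊆ univ.filter fun i => i ≠ a ∧ i ≠ b := fun i hi =>
          Finset.mem_filter.mpr ⟨Finset.mem_univ _, fun h => haI (h ▸ hi),
            fun h => hbv (h ▸ hI i hi)⟩
        have := Finset.sum_le_sum_of_subset_of_nonneg hsub (f := θ) fun i _ _ => h0 i
        replace this := this.trans_eq ((Finset.sum_subtype (univ.filter fun i => i ≠ a ∧ i ≠ b)
          (p := fun i => i ≠ a ∧ i ≠ b) (fun i => by simp) θ).trans (sum_rest hab h2))
        simp [QWt, finrank_span_singleton hv]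
        linarith

end Compare

end Groth.Agent.L13.Quiv
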